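import Groth.Agent.Lib.CSAExtra.Basic
import Mathlib.FieldTheory.PrimitiveElement
import Mathlib.FieldTheory.SeparableClosure
import Mathlib.RingTheory.MatrixAlgebra
import Mathlib.LinearAlgebra.Trace

/-!
# Brauer groups of separable algebraic extensions and restriction from finite levels
-/

set_option autoImplicit false
set_option linter.all false
set_option backward.isDefEq.respectTransparency false

universe u

open scoped TensorProduct
open IntermediateField

namespace GrothLib.BrRestrict10

/-- Matrix algebras commute with base change. -/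
theorem nonempty_tensor_matrix (L M : Type u) [Field L] [Field M] [Algebra L M] (n : ℕ) :
    Nonempty (M ⊗[L] Matrix (Fin n) (Fin n) L ≃ₐ[M] Matrix (Fin n) (Fin n) M) := by
  let f : M ⊗[L] Matrix (Fin n) (Fin n) L →ₐ[M] Matrix (Fin n) (Fin n) M :=
    Algebra.TensorProduct.lift (Algebra.ofId M _) (Algebra.ofId L M).mapMatrix
      fun m X => Algebra.commutes m _
  have hf : ∀ z, f z = (matrixEquivTensor (Fin n) L M).symm z := by
    intro z
    induction z with
    | zero => simp
    | tmul m X =>
      rw [Algebra.TensorProduct.lift_tmul, matrixEquivTensor_apply_symm]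
      ext i j
      simp [Algebra.algebraMap_eq_smul_one, Matrix.smul_apply]
    | add a b ha hb => rw [map_add, map_add, ha, hb]
  exact ⟨AlgEquiv.ofBijective f
    ((funext hf : ⇑f = _) ▸ (matrixEquivTensor (Fin n) L M).symm.bijective)⟩

theorem finrank_eq_one_of_matrix {F' D : Type u} [Field F'] [DivisionRing D] [Algebra F' D] {n : ℕ}
    (e : D ≃ₐ[F'] Matrix (Fin n) (Fin n) F') : Module.finrank F' D = 1 := by
  match n, e with
  | 0, e => exact absurd (e.injective (Subsingleton.elim (e 1) (e 0))) one_ne_zero
  | 1, e => rw [e.toLinearEquiv.finrank_eq]; simp [Module.finrank_matrix]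
  | n + 2, e =>
    exfalso
    let X : Matrix (Fin (n + 2)) (Fin (n + 2)) F' := Matrix.single 0 1 1
    have hX : X * X = 0 := Matrix.single_mul_single_of_ne (c := (1 : F')) _ _ _ (by simp) _
    have h0 : e.symm X * e.symm X = 0 := by rw [← map_mul, hX, map_zero]
    have h1 : X = 0 := e.symm.injective (by rw [mul_self_eq_zero.mp h0, map_zero])
    simpa [X] using congr_fun (congr_fun h1 0) 1

variable {K F : Type u} [Field K] [Field F] [Algebra K F]

theorem exists_split (h : ∀ (F' : Type u) [Field F'] [Algebra F F'] [FiniteDimensional F F'] [Algebra.IsSeparable F F']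
        (D : Type u) [DivisionRing D] [Algebra F' D] [Algebra.IsCentral F' D] [FiniteDimensional F' D],
        Module.finrank F' D = 1)
    (E : Type u) [Field E] [Algebra K E] [FiniteDimensional K E] [Algebra.IsSeparable K E]
    (D : Type u) [DivisionRing D] [Algebra E D] [Algebra.IsCentral E D] [FiniteDimensional E D]
    (M : Type u) [Field M] [Algebra K M] [Algebra E M] [Algebra F M] [IsScalarTower K E M]
    [IsScalarTower K F M] :
    ∃ n : ℕ, Nonempty ((M ⊗[E] D) ≃ₐ[M] Matrix (Fin n) (Fin n) M) := by
  obtain ⟨a, ha⟩ := Field.exists_primitive_element K E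
  let α : M := algebraMap E M a
  have hsep : IsSeparable F α :=
    IsSeparable.tower_top F (IsSeparable.map (IsScalarTower.toAlgHom K E M) (algebraMap E M).injective
      (Algebra.IsSeparable.isSeparable K a))
  let L : IntermediateField F M := F⟮α⟯
  haveI : FiniteDimensional F L := adjoin.finiteDimensional hsep.isIntegral
  haveI : Algebra.IsSeparable F L := (isSeparable_adjoin_simple_iff_isSeparable F M).mpr hsep
  have hE : ∀ x : E, algebraMap E M x ∈ L := fun x => by
    have hx : x ∈ K⟮a⟯ := ha ▸ IntermediateField.mem_top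
    induction hx using IntermediateField.adjoin_induction with
    | mem y hy => rw [Set.mem_singleton_iff.1 hy]; exact mem_adjoin_simple_self F α
    | algebraMap c =>
      rw [← IsScalarTower.algebraMap_apply, IsScalarTower.algebraMap_apply K F M]
      exact L.algebraMap_mem _
    | add y z _ _ hy hz => rw [map_add]; exact L.add_mem hy hz
    | inv y _ hy => rw [map_inv₀]; exact L.inv_mem hy
    | mul y z _ _ hy hz => rw [map_mul]; exact L.mul_mem hy hz
  letI : Algebra E L := ((algebraMap E M).codRestrict L.toSubfield hE).toAlgebra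
  haveI : IsScalarTower E L M := IsScalarTower.of_algebraMap_eq fun x => rfl
  obtain ⟨_, _, _⟩ := CSAExtra.csa_baseChange E L D
  obtain ⟨n, _, D', _, _, _, _, ⟨e⟩⟩ := CSAExtra.exists_matrix_centralDivisionRing L (L ⊗[E] D)
  have h1 : Module.finrank L D' = 1 := h L D'
  have hbij : Function.Bijective (Algebra.ofId L D') :=
    Module.Free.bijective_algebraMap_of_finrank_eq_one h1
  let eL : L ⊗[E] D ≃ₐ[L] Matrix (Fin n) (Fin n) L :=
    e.trans (AlgEquiv.ofBijective _ hbij).symm.mapMatrix
  obtain ⟨eM⟩ := nonempty_tensor_matrix L M n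
  let c : M ⊗[E] D →ₐ[M] M ⊗[L] (L ⊗[E] D) :=
    Algebra.TensorProduct.lift (Algebra.ofId M _)
      ((Algebra.TensorProduct.includeRight.restrictScalars E).comp Algebra.TensorProduct.includeRight)
      fun m x => Algebra.commutes m _
  have hc : ∀ z, c z = (TensorProduct.AlgebraTensorModule.cancelBaseChange E L M M D).symm z := by
    intro z
    induction z with
    | zero => simp
    | tmul m x => simp [c, Algebra.TensorProduct.tmul_mul_tmul]
    | add a b ha hb => rw [map_add, map_add, ha, hb]
  have hcb : Function.Bijective c := (funext hc : ⇑c = _) ▸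
    (TensorProduct.AlgebraTensorModule.cancelBaseChange E L M M D).symm.bijective
  exact ⟨n, ⟨(AlgEquiv.ofBijective c hcb).trans
    ((Algebra.TensorProduct.congr AlgEquiv.refl eL).trans eM)⟩⟩

theorem finrank_eq_one [Algebra.IsSeparable K F]
    (h : ∀ (E : Type u) [Field E] [Algebra K E] [FiniteDimensional K E] [Algebra.IsSeparable K E]
        (D : Type u) [DivisionRing D] [Algebra E D] [Algebra.IsCentral E D] [FiniteDimensional E D]
        (M : Type u) [Field M] [Algebra K M] [Algebra E M] [Algebra F M] [IsScalarTower K E M]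
        [IsScalarTower K F M],
        ∃ n : ℕ, Nonempty ((M ⊗[E] D) ≃ₐ[M] Matrix (Fin n) (Fin n) M))
    (F' : Type u) [Field F'] [Algebra F F'] [FiniteDimensional F F'] [Algebra.IsSeparable F F']
    (D : Type u) [DivisionRing D] [Algebra F' D] [Algebra.IsCentral F' D] [FiniteDimensional F' D] :
    Module.finrank F' D = 1 := by
  classical
  letI : Algebra K F' := ((algebraMap F F').comp (algebraMap K F)).toAlgebra
  haveI : IsScalarTower K F F' := IsScalarTower.of_algebraMap_eq fun x => rfl
  haveI : Algebra.IsSeparable K F' := Algebra.IsSeparable.trans K F F'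
  let ι := Fin (Module.finrank F' D)
  let b : Module.Basis ι F' D := Module.finBasis F' D
  let S : Set F' := Set.range (fun t : ι × ι × ι => b.repr (b t.1 * b t.2.1) t.2.2) ∪
    Set.range (fun i : ι => b.repr 1 i)
  let E : IntermediateField K F' := adjoin K S
  haveI : Finite S := ((Set.finite_range _).union (Set.finite_range _)).to_subtype
  haveI : FiniteDimensional K E :=
    finiteDimensional_adjoin fun x _ => Algebra.IsIntegral.isIntegral x
  haveI : Algebra.IsSeparable K E := Algebra.isSeparable_tower_bot_of_isSeparable K E F'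
  have hc : ∀ i j l, b.repr (b i * b j) l ∈ E := fun i j l =>
    subset_adjoin K S (Or.inl ⟨(i, j, l), rfl⟩)
  have h1 : ∀ i, b.repr 1 i ∈ E := fun i => subset_adjoin K S (Or.inr ⟨i, rfl⟩)
  let D₀ : Subalgebra E D :=
    { carrier := {x | ∀ i, b.repr x i ∈ E}
      mul_mem' := fun {x y} hx hy l => by
        rw [← b.sum_repr x, ← b.sum_repr y, Finset.sum_mul_sum]
        simp only [map_sum, Finsupp.coe_finsetSum, Finset.sum_apply, smul_mul_smul_comm, map_smul,
          Finsupp.coe_smul, Pi.smul_apply, smul_eq_mul]
        exact sum_mem fun i _ => sum_mem fun j _ => E.mul_mem (E.mul_mem (hx i) (hy j)) (hc i j l)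
      one_mem' := h1
      add_mem' := fun {x y} hx hy i => by
        rw [map_add, Finsupp.add_apply]; exact E.add_mem (hx i) (hy i)
      zero_mem' := fun i => by rw [map_zero, Finsupp.zero_apply]; exact E.zero_mem
      algebraMap_mem' := fun c i => by
        rw [IsScalarTower.algebraMap_apply E F' D, Algebra.algebraMap_eq_smul_one, map_smul,
          Finsupp.smul_apply, smul_eq_mul]
        exact E.mul_mem c.2 (h1 i) }
  have hb : ∀ i, b i ∈ D₀ := fun i j => by
    rw [b.repr_self, Finsupp.single_apply]
    split_ifs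
    · exact E.one_mem
    · exact E.zero_mem
  let crd : D₀ →ₗ[E] ι → E :=
    { toFun := fun x i => ⟨b.repr (x : D) i, x.2 i⟩
      map_add' := fun x y => funext fun i => Subtype.ext (by simp)
      map_smul' := fun c x => funext fun i => Subtype.ext (by
        show b.repr ((c : E) • (x : D)) i = (c : F') * b.repr (x : D) i
        rw [← algebraMap_smul F' c (x : D), map_smul, Finsupp.smul_apply, smul_eq_mul]
        rfl) }
  have hcrd : Function.Bijective crd := by
    refine ⟨fun x y hxy => Subtype.ext (b.ext_elem fun i => congrArg Subtype.val (congr_fun hxy i)),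
      fun v => ?_⟩
    have hr : ∀ i, b.repr (b.equivFun.symm fun j => (v j : F')) i = v i := fun i => by
      rw [← b.equivFun_apply, LinearEquiv.apply_symm_apply]
    exact ⟨⟨_, fun i => (hr i).symm ▸ (v i).2⟩, funext fun i => Subtype.ext (hr i)⟩
  haveI : FiniteDimensional E D₀ := Module.Finite.equiv (LinearEquiv.ofBijective crd hcrd).symm
  haveI : IsDomain D₀ := Subalgebra.isDomain D₀
  letI : DivisionRing D₀ := divisionRingOfFiniteDimensional E D₀
  haveI : Algebra.IsCentral E D₀ := ⟨fun x hx => by
    rw [Subalgebra.mem_center_iff] at hx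
    have hxD : (x : D) ∈ Subalgebra.center F' D := Subalgebra.mem_center_iff.2 fun y => by
      rw [← b.sum_repr y, Finset.sum_mul, Finset.mul_sum]
      refine Finset.sum_congr rfl fun i _ => ?_
      rw [smul_mul_assoc, mul_smul_comm, show b i * (x : D) = (x : D) * b i from
        congrArg Subtype.val (hx ⟨b i, hb i⟩)]
    obtain ⟨f, hf⟩ := (Algebra.IsCentral.mem_center_iff F').1 hxD
    obtain ⟨i, hi⟩ : ∃ i, b.repr 1 i ≠ 0 := by
      by_contra hcon
      push Not at hcon
      exact one_ne_zero (b.ext_elem fun i => by rw [hcon i, map_zero, Finsupp.zero_apply])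
    have hfE : f ∈ E := by
      have h2 := x.2 i
      rw [hf, Algebra.algebraMap_eq_smul_one, map_smul, Finsupp.smul_apply, smul_eq_mul] at h2
      simpa [hi] using E.div_mem h2 (h1 i)
    exact Algebra.mem_bot.2 ⟨⟨f, hfE⟩, Subtype.ext (by
      show algebraMap E D ⟨f, hfE⟩ = (x : D)
      rw [IsScalarTower.algebraMap_apply E F' D, hf]
      rfl)⟩⟩
  obtain ⟨n, ⟨e⟩⟩ := h E D₀ F'
  let τ : F' ⊗[E] D₀ →ₐ[F'] D :=
    Algebra.TensorProduct.lift (Algebra.ofId F' D) D₀.val fun f x => Algebra.commutes f _
  have hτs : Function.Surjective τ := fun y => by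
    refine ⟨∑ i, b.repr y i ⊗ₜ ⟨b i, hb i⟩, ?_⟩
    rw [map_sum]
    conv_rhs => rw [← b.sum_repr y]
    exact Finset.sum_congr rfl fun i _ => by simp [τ, Algebra.smul_def]
  have hdim : Module.finrank F' (F' ⊗[E] D₀) = Module.finrank F' D := by
    rw [Module.finrank_baseChange, (LinearEquiv.ofBijective crd hcrd).finrank_eq, Module.finrank_pi]
    simp [ι]
  have hτ : Function.Bijective τ :=
    ⟨(LinearMap.injective_iff_surjective_of_finrank_eq_finrank hdim (f := τ.toLinearMap)).2 hτs, hτs⟩
  exact finrank_eq_one_of_matrix ((AlgEquiv.ofBijective τ hτ).symm.trans e)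

end GrothLib.BrRestrict10
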